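import Groth.Agent.GenusOneSSLib.RankTwo
import Groth.Agent.HodgeIdxLib.Bound
import Groth.Agent.RibbonDualLib.Main
import Groth.Agent.AVAmpleLib.FrobPull
import Groth.Agent.SeesawLib.Ranks
import Groth.Agent.ProjBunLib.Ses
import Groth.Agent.VBResLib.KFunct
import Groth.Agent.SerreVanLib.CurveAmple
import Groth.Agent.ParGPLib.Basic

/-!
# Sections of Frobenius pullbacks of bundles on a curve
-/

set_option autoImplicit false
set_option linter.style.haveILetI false
set_option linter.unusedSectionVars false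
set_option backward.isDefEq.respectTransparency false
set_option backward.isDefEq.respectTransparency.types false
set_option maxHeartbeats 1000000

universe u

open CategoryTheory CategoryTheory.Limits AlgebraicGeometry TopologicalSpace Opposite
open CurvLib CurveVBLib HodgeIdxLib
open KFlatLib (pb)

noncomputable section

namespace FrobBddLib

variable {k : Type u} [Field k] [IsAlgClosed k] {X : Scheme.{u}} [X.Over (Spec (CommRingCat.of k))]
  [IsIntegral X] [IsProper (X ↘ Spec (CommRingCat.of k))] [Smooth (X ↘ Spec (CommRingCat.of k))]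
  (hdim : topologicalKrullDim X = 1)

include k hdim in
/-- A bundle of positive rank has a line subbundle. -/
theorem exists_line_seq {r : ℕ} {E : X.Modules} (hE : FlatMod.IsFinLocFreeOfRank (r + 1) E) :
    ∃ (S : ShortComplex X.Modules), S.ShortExact ∧ S.X₂ = E ∧ FlatMod.IsFinLocFreeOfRank 1 S.X₁ ∧
      FlatMod.IsFinLocFreeOfRank r S.X₃ := by
  haveI := CurvLib.isNoetherian k (X := X)
  let χ := Curv2.euler k X (Coh.structureModule X)
  obtain ⟨N, hN, hNd⟩ := GenusOneSSLib.exists_invertible_deg (k := k) hdim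
    (|Curv2.deg k X E (r + 1)| + (r + 1 : ℕ) * |χ| + 1)
  have hd := GenusOneSSLib.deg_twist (k := k) hdim hE hN
  rw [hNd] at hd
  have he := CurvLib.euler_curve (k := k) hdim (CohB1.tensorMod N E)
  have hpos : 0 < Module.finrank k (Coh.structureModule X ⟶ CohB1.tensorMod N E) := by
    rw [GenusOneSSLib.finrank_hom]
    have h1 : -((r + 1 : ℕ) : ℤ) * |χ| ≤ ((r + 1 : ℕ) : ℤ) * χ := by
      rw [neg_mul, ← mul_neg]
      exact mul_le_mul_of_nonneg_left (neg_abs_le χ) (Int.natCast_nonneg _)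
    have h2 := neg_abs_le (Curv2.deg k X E (r + 1))
    have h3 : (Curv2.euler k X (CohB1.tensorMod N E)) =
        Curv2.deg k X (CohB1.tensorMod N E) (r + 1) + ((r + 1 : ℕ) : ℤ) * χ := by
      simp only [Curv2.deg, χ]; push_cast; ring
    rw [hd] at h3
    have h4 := abs_nonneg (Curv2.deg k X E (r + 1))
    push_cast at h1 h3 ⊢
    by_contra h0
    have h7 : ((Module.finrank k (Coh.HH X (CohB1.tensorMod N E) 0) : ℕ) : ℤ) = 0 := by
      simp only [not_lt, nonpos_iff_eq_zero] at h0; simp [h0]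
    have h8 := Int.natCast_nonneg (Module.finrank k (Coh.HH X (CohB1.tensorMod N E) 1))
    have hr1 : (1 : ℤ) ≤ (r : ℤ) + 1 := by linarith [Int.natCast_nonneg r]
    have h5 := le_mul_of_one_le_left h4 hr1
    have h6 := le_mul_of_one_le_left (mul_nonneg (zero_le_one.trans hr1) (abs_nonneg χ)) hr1
    rw [mul_add, mul_add] at h3
    linarith
  haveI := Module.nontrivial_of_finrank_pos hpos
  obtain ⟨s, hs⟩ := exists_ne (0 : Coh.structureModule X ⟶ CohB1.tensorMod N E)
  obtain ⟨eN⟩ := MiscFlat6.nonempty_dualIso hN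
  let M := MiscFlat6.dual N
  have hM : PicF.IsInvertible M := MiscFlat6.dual_isInvertible hN
  haveI : (tensorLeft' N).IsEquivalence := VBP1Lib.isEquivalence_tensor (L := N) (M := MiscFlat6.dual N) eN
  haveI : (tensorLeft' N).Additive := Functor.additive_of_preserves_binary_products _
  let e : (tensorLeft' N).obj M ≅ Coh.structureModule X := eN
  obtain ⟨ψ, hψ⟩ := (tensorLeft' N).map_surjective (e.hom ≫ s)
  have hψ0 : ψ ≠ 0 := fun h0 => hs (by
    rw [h0, Functor.map_zero] at hψ
    rw [← cancel_epi e.hom, comp_zero]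
    exact hψ.symm)
  have hM1 := CurvLib.locFree_of_isInvertible hM
  haveI := mono_of_line (k := k) hdim hM1 hE hψ0
  obtain ⟨Q, p, hp, hQ, hrk, -⟩ := exists_saturation (k := k) hdim hE ψ (CurvLib.isCoh_of_locFree hM1)
  rw [genRank_eq hM1] at hrk
  have hQr : genRank Q = r := by omega
  rw [hQr] at hQ
  obtain ⟨hK, hrK, -⟩ := epi_data (k := k) (CurvLib.isCoh_of_locFree hE) (CurvLib.isCoh_of_locFree hQ) p
  rw [genRank_eq hE, hQr] at hrK
  obtain ⟨hKr, -, -, -, -⟩ := sub_data (k := k) hdim hE (kernel.ι p) hK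
  rw [show genRank (kernel p) = 1 by omega] at hKr
  exact ⟨ShortComplex.mk (kernel.ι p) p (kernel.condition p),
    { exact := ShortComplex.exact_of_f_is_kernel _ (kernelIsKernel p)
      mono_f := inferInstanceAs (Mono (kernel.ι p))
      epi_g := hp }, rfl, hKr, hQ⟩

variable (p : ℕ) [Fact p.Prime] [FrobSch.IsCharP X p]

/-- Pullback by the absolute Frobenius. -/
abbrev fp (X : Scheme.{u}) [FrobSch.IsCharP X p] : X.Modules ⥤ X.Modules :=
  Scheme.Modules.pullback (FrobSch.frob X p)

theorem rank_iterate {r : ℕ} (n : ℕ) : ∀ {E : X.Modules}, FlatMod.IsFinLocFreeOfRank r E →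
    FlatMod.IsFinLocFreeOfRank r ((fp p X).obj^[n] E) := by
  induction n with
  | zero => exact fun h => h
  | succ n ih => exact fun h => ih (SeesawLib.isFinLocFreeOfRank_pullback _ h)

theorem shortExact_iterate {r : ℕ} (n : ℕ) : ∀ {S : ShortComplex X.Modules}, S.ShortExact →
    FlatMod.IsFinLocFreeOfRank r S.X₃ → ∃ T : ShortComplex X.Modules, T.ShortExact ∧
      T.X₁ = (fp p X).obj^[n] S.X₁ ∧ T.X₂ = (fp p X).obj^[n] S.X₂ ∧ T.X₃ = (fp p X).obj^[n] S.X₃ := by
  induction n with
  | zero => exact fun h _ => ⟨_, h, rfl, rfl, rfl⟩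
  | succ n ih =>
    intro S hS h3
    haveI : (fp p X).Additive := (Scheme.Modules.pullbackPushforwardAdjunction (FrobSch.frob X p)).left_adjoint_additive
    obtain ⟨T, hT, h1, h2, h3'⟩ := ih (ProjBunLib.shortExact_pullback (FrobSch.frob X p) hS h3)
      (SeesawLib.isFinLocFreeOfRank_pullback _ h3)
    exact ⟨T, hT, h1, h2, h3'⟩

include hdim in
theorem deg_iterate (n : ℕ) : ∀ {L : X.Modules}, PicF.IsInvertible L →
    PicF.IsInvertible ((fp p X).obj^[n] L) ∧
      Curv2.deg k X ((fp p X).obj^[n] L) 1 = (p : ℤ) ^ n * Curv2.deg k X L 1 := by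
  induction n with
  | zero => exact fun h => ⟨h, by simp⟩
  | succ n ih =>
    intro L hL
    haveI := CurvLib.isNoetherian k (X := X)
    obtain ⟨e⟩ := AVAmpleLib.nonempty_frobPullIso (FrobSch.frob X p) (q := p) (FrobSch.frob_base X p)
      (fun U => le_rfl) (fun U s => by
        show (X.presheaf.map _).hom ((FrobSch.frob X p).app U s) = s ^ p
        rw [FrobSch.frob_app, map_pow]
        exact congrArg (fun z => z ^ p) (congrArg (fun r => r.hom s) (X.presheaf.map_id _))) hL
    have hd : Curv2.deg k X ((fp p X).obj L) 1 = (p : ℤ) * Curv2.deg k X L 1 := by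
      have h := SerreVanLib.deg_pow (k := k) hdim hL p
      rw [CurvLib.deg_congr (k := k) e, Curv2.deg]
      push_cast
      rw [h]
      ring
    obtain ⟨h1, h2⟩ := ih (AmpleDevLib.isInvertible_pb (FrobSch.frob X p) hL)
    exact ⟨h1, h2.trans (by rw [pow_succ, mul_assoc]; exact congrArg _ hd)⟩

variable {L : X.Modules} (hL : PicF.IsInvertible L)

include hdim hL in
/-- The bound, by induction on the rank. -/
theorem exists_bound : ∀ (r : ℕ) {E : X.Modules}, FlatMod.IsFinLocFreeOfRank r E →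
    ∃ C : ℕ, ∀ n, Module.finrank k (Coh.HH X (CohB1.tensorMod L ((fp p X).obj^[n] E)) 0) ≤ C * p ^ n := by
  haveI := CurvLib.isNoetherian k (X := X)
  have hLf := AmpleDevLib.isFinLocFree_of_isInvertible hL
  intro r
  induction r with
  | zero =>
    intro E hE
    refine ⟨0, fun n => ?_⟩
    have hn := rank_iterate p n hE
    have hz : IsZero ((fp p X).obj^[n] E) := isZero_of_genRank_zero hn (𝟙 _) hn
    have hz' : IsZero (CohB1.tensorMod L ((fp p X).obj^[n] E)) := by
      haveI : (tensorLeft' L).Additive := Functor.additive_of_preserves_binary_products _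
      exact Functor.map_isZero (tensorLeft' L) hz
    haveI := ParGPLib.subsingleton_HH_of_isZero k hz' 0
    simp [Module.finrank_zero_of_subsingleton]
  | succ r ih =>
    intro E hE
    obtain ⟨S, hS, rfl, h1, h3⟩ := exists_line_seq (k := k) hdim hE
    obtain ⟨C, hC⟩ := ih h3
    have hS1 : PicF.IsInvertible S.X₁ := (CohCmpLib.invertible_iff_rank_one _).2 h1
    refine ⟨C + (hh k (Coh.structureModule X) 0 + (Curv2.deg k X L 1).natAbs + (Curv2.deg k X S.X₁ 1).natAbs),
      fun n => ?_⟩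
    obtain ⟨T, hT, hT1, hT2, hT3⟩ := shortExact_iterate p n hS h3
    have hT' := VBResLib.shortExact_tensor_vb L hLf hT
    obtain ⟨hi1, hd1⟩ := deg_iterate (k := k) hdim p n hS1
    have hI := HilbPolyLib.isInvertible_tensor hL hi1
    have hb := h0_le_integral (k := k) (X := X) (by rw [hdim]; exact le_of_eq Nat.cast_one.symm) hI
    have hdeg := GenusZeroLib.deg_tensor k hdim hL hi1
    rw [hd1] at hdeg
    simp only [Curv2.deg] at hdeg
    push_cast at hdeg
    rw [one_mul] at hdeg
    have hc1 : Coh.IsCoh (CohB1.tensorMod L T.X₁) := hT1 ▸ CurvLib.isCoh_of_isInvertible hI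
    have hv3 : FlatMod.IsFinLocFree ((tensorLeft' L).obj T.X₃) :=
      VBResLib.vb_tensor _ hLf (hT3 ▸ CurveVBLib.isFinLocFree_of_rank (rank_iterate p n h3))
    have hc2 : Coh.IsCoh ((tensorLeft' L).obj T.X₂) :=
      VBResLib.isCoh_of_vb (VBResLib.vb_tensor _ hLf (hT2 ▸ CurveVBLib.isFinLocFree_of_rank (rank_iterate p n hE)))
    have hmid : hh k (CohB1.tensorMod L T.X₂) 0 ≤ hh k (CohB1.tensorMod L T.X₁) 0 + hh k (CohB1.tensorMod L T.X₃) 0 :=
      hh_mid_le (k := k) hT' hc1 hc2 (VBResLib.isCoh_of_vb hv3) 0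
    rw [hT1, hT2, hT3] at hmid
    have hq : hh k (CohB1.tensorMod L ((fp p X).obj^[n] S.X₃)) 0 ≤ C * p ^ n := hC n
    show hh k (CohB1.tensorMod L ((fp p X).obj^[n] S.X₂)) 0 ≤ _
    have hp : (1 : ℤ) ≤ (p : ℤ) ^ n := one_le_pow₀ (by exact_mod_cast (Fact.out : p.Prime).one_lt.le)
    have e1 : (hh k (CohB1.tensorMod L ((fp p X).obj^[n] S.X₁)) 0 : ℤ) ≤
        (hh k (Coh.structureModule X) 0 + |Curv2.deg k X L 1| + |Curv2.deg k X S.X₁ 1|) * (p : ℤ) ^ n := by
      refine hb.trans ?_
      rw [hdeg]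
      have h5 := abs_add_le (Curv2.deg k X L 1) ((p : ℤ) ^ n * Curv2.deg k X S.X₁ 1)
      rw [abs_mul, abs_of_pos (zero_lt_one.trans_le hp)] at h5
      simp only [Curv2.deg] at h5 ⊢
      push_cast at h5 ⊢
      rw [one_mul] at h5 ⊢
      nlinarith [Int.natCast_nonneg (hh k (Coh.structureModule X) 0),
        abs_nonneg (Curv2.euler k X L - Curv2.euler k X (Coh.structureModule X))]
    zify at hmid hq ⊢
    linarith

include hdim hL in
/-- `h⁰((F^n)^* E ⊗ L)` is `O(p^n)`. -/
theorem main {E : X.Modules} (hE : FlatMod.IsFinLocFree E) :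
    ∃ M N : ℕ, ∀ n : ℕ, N ≤ n →
      Module.finrank k (Coh.HH X (CohB1.tensorMod ((fp p X).obj^[n] E) L) 0) ≤ M * p ^ n := by
  haveI := CurvLib.isNoetherian k (X := X)
  have hr := CurveVBLib.rank_genRank hE
  obtain ⟨C, hC⟩ := exists_bound (k := k) hdim p hL _ hr
  refine ⟨C, 0, fun n _ => le_trans ?_ (hC n)⟩
  have hc : Coh.IsCoh (CohB1.tensorMod L ((fp p X).obj^[n] E)) :=
    VBResLib.isCoh_of_vb (VBResLib.vb_tensor _ (AmpleDevLib.isFinLocFree_of_isInvertible hL)
      (CurveVBLib.isFinLocFree_of_rank (rank_iterate p n hr)))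
  haveI := CurvLib.finite_HH (k := k) hc 0
  exact RibbonDualLib.h0_le_of_mono' (HilbPolyLib.swapIso ((fp p X).obj^[n] E) L).hom

end FrobBddLib

end
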